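import Groth.Agent.Lib.NumFld28.Decomp
import Mathlib.FieldTheory.Normal.Closure
import Mathlib.FieldTheory.IsAlgClosed.AlgebraicClosure
import Mathlib.RingTheory.IntegralDomain
import Mathlib.GroupTheory.SpecificGroups.Cyclic
import Mathlib.Algebra.Field.ZMod

/-!
# Extensions on whose embeddings the Galois group acts by affine maps
-/

set_option autoImplicit false
set_option linter.style.haveILetI false
set_option linter.unusedSectionVars false

open NumberField IsDedekindDomain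
open scoped Pointwise

namespace GrothLib.NumFld28

universe u

variable {K L N : Type u} [Field K] [NumberField K] [Field L] [NumberField L] [Algebra K L]
  [Field N] [NumberField N] [Algebra K N] [IsGalois K N]

/-- The decomposition group of an unramified prime is commutative. -/
theorem commute_of_stabilizer (w : HeightOneSpectrum (𝓞 K)) (Q : Ideal (𝓞 N)) [Q.IsPrime]
    [Q.LiesOver w.asIdeal]
    (hur : ∀ P : Ideal (𝓞 L), P.IsPrime → P.LiesOver w.asIdeal → P.ramificationIdx (𝓞 K) = 1)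
    (hgen : ∀ τ : N ≃ₐ[K] N, (∀ (φ : L →ₐ[K] N) (y : L), τ (φ y) = φ y) → τ = 1)
    {σ τ : N ≃ₐ[K] N} (hσ : σ • Q = Q) (hτ : τ • Q = Q) : σ * τ = τ * σ := by
  haveI hQ := isMaximal_of_liesOver w Q
  letI : Field (𝓞 K ⧸ w.asIdeal) := @Ideal.Quotient.field _ _ w.asIdeal w.isMaximal
  letI : Field (𝓞 N ⧸ Q) := Ideal.Quotient.field Q
  haveI : Finite (𝓞 N ⧸ Q) := Ideal.finiteQuotientOfFreeOfNeBot Q fun h =>
    w.ne_bot (by rw [Q.over_def w.asIdeal, h, Ideal.under_bot])
  haveI : SMulCommClass (N ≃ₐ[K] N) (𝓞 K) (𝓞 N) := ⟨fun g r x => by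
    rw [Algebra.smul_def, Algebra.smul_def, smul_mul']
    congr 1
    refine RingOfIntegers.ext ?_
    change g (algebraMap K N (r : K)) = algebraMap K N (r : K)
    exact g.commutes _⟩
  let h := Ideal.Quotient.stabilizerHom Q w.asIdeal (N ≃ₐ[K] N)
  have hinj : Function.Injective h := by
    refine (injective_iff_map_eq_one h).mpr fun g hg => Subtype.ext (hgen g.1 fun φ y => ?_)
    refine fix_of_inertia φ w Q hur (fun x => ?_) y
    have := AlgEquiv.congr_fun hg (Ideal.Quotient.mk Q x)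
    exact Ideal.Quotient.eq.mp this
  have hc : ∀ x y : (𝓞 N ⧸ Q) ≃ₐ[𝓞 K ⧸ w.asIdeal] (𝓞 N ⧸ Q), x * y = y * x :=
    fun x y => by
      letI := IsCyclic.commGroup (α := (𝓞 N ⧸ Q) ≃ₐ[𝓞 K ⧸ w.asIdeal] (𝓞 N ⧸ Q))
      exact mul_comm x y
  exact congrArg Subtype.val (hinj (a₁ := ⟨σ, hσ⟩ * ⟨τ, hτ⟩) (a₂ := ⟨τ, hτ⟩ * ⟨σ, hσ⟩)
    (by rw [map_mul, map_mul, hc]))

theorem main_galois (p : ℕ) [Fact p.Prime] (e : (L →ₐ[K] N) ≃ ZMod p)
    (haff : ∀ σ : N ≃ₐ[K] N, ∃ a b : ZMod p, a ≠ 0 ∧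
      ∀ φ : L →ₐ[K] N, e (σ.toAlgHom.comp φ) = a * e φ + b)
    (hgen : ∀ τ : N ≃ₐ[K] N, (∀ (φ : L →ₐ[K] N) (y : L), τ (φ y) = φ y) → τ = 1)
    (hnab : IsGalois K L → ∃ σ τ : L ≃ₐ[K] L, σ * τ ≠ τ * σ) :
    ∃ E : IntermediateField K N, IsGalois K E ∧ IsCyclic (E ≃ₐ[K] E) ∧ 1 < Module.finrank K E ∧
      ∀ w : HeightOneSpectrum (𝓞 K),
        (∀ P : Ideal (𝓞 L), P.IsPrime → P.LiesOver w.asIdeal → P.ramificationIdx (𝓞 K) = 1) →
        Nonempty (E →ₐ[K] w.adicCompletion K) ∨ Nonempty (L →ₐ[K] w.adicCompletion K) := by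
  classical
  haveI : FiniteDimensional K N := Module.Finite.of_restrictScalars_finite ℚ K N
  choose a b ha hab using haff
  have hact : ∀ σ (z : ZMod p), e (σ.toAlgHom.comp (e.symm z)) = a σ * z + b σ := fun σ z => by
    rw [hab, e.apply_symm_apply]
  have hmul : ∀ σ τ, a (σ * τ) = a σ * a τ := fun σ τ => by
    have key : ∀ z, a (σ * τ) * z + b (σ * τ) = a σ * (a τ * z + b τ) + b σ := fun z => by
      rw [← hact (σ * τ), ← hact τ, ← hab σ]
      rfl
    have h0 := key 0; have h1 := key 1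
    linear_combination h1 - h0
  have hone : a 1 = 1 := by
    have key : ∀ z, a 1 * z + b 1 = z := fun z => by
      rw [← hact 1]
      exact e.apply_symm_apply z
    have h0 := key 0; have h1 := key 1
    linear_combination h1 - h0
  let A : (N ≃ₐ[K] N) →* (ZMod p)ˣ :=
    { toFun := fun σ => Units.mk0 (a σ) (ha σ)
      map_one' := Units.ext hone
      map_mul' := fun σ τ => Units.ext (hmul σ τ) }
  have hA : ∀ σ, σ ∈ A.ker ↔ a σ = 1 := fun σ => by
    rw [MonoidHom.mem_ker, Units.ext_iff]; rfl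
  have hfix : ∀ (σ : N ≃ₐ[K] N) (φ : L →ₐ[K] N) (y : L), σ.toAlgHom.comp φ = φ → σ (φ y) = φ y := fun σ φ y h => AlgHom.congr_fun h y
  have hnt : A.ker ≠ ⊤ := by
    intro htop
    have hcomm : ∀ σ τ : N ≃ₐ[K] N, σ * τ = τ * σ := fun σ τ => by
      have hker : ∀ g, a g = 1 := fun g => (hA g).mp (htop ▸ Subgroup.mem_top g)
      refine mul_inv_eq_one.mp (hgen _ fun φ y => hfix _ φ y (e.injective ?_))
      have ev : ∀ g (ψ : L →ₐ[K] N), e (g.toAlgHom.comp ψ) = e ψ + b g := fun g ψ => by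
        rw [hab, hker, one_mul]
      have hb : ∀ g h, b (g * h) = b g + b h := fun g h => by
        have := ev (g * h) φ
        rw [show (g * h).toAlgHom.comp φ = g.toAlgHom.comp (h.toAlgHom.comp φ) from rfl, ev, ev] at this
        linear_combination -this
      have hb1 : b 1 = 0 := by have := hb 1 1; rw [one_mul] at this; linear_combination -this
      have hbi : ∀ g, b g⁻¹ = -b g := fun g => by
        have := hb g g⁻¹; rw [mul_inv_cancel, hb1] at this; linear_combination -this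
      rw [ev, hb, hb, hbi, hb]; ring
    obtain ⟨φ⟩ : Nonempty (L →ₐ[K] N) := ⟨e.symm 0⟩
    haveI : φ.fieldRange.fixingSubgroup.Normal := ⟨fun x hx y => by rwa [hcomm y x, mul_inv_cancel_right]⟩
    haveI : IsGalois K φ.fieldRange := (IsGalois.fixedField_fixingSubgroup φ.fieldRange) ▸
      IsGalois.of_fixedField_normal_subgroup φ.fieldRange.fixingSubgroup
    let el : L ≃ₐ[K] φ.fieldRange := AlgEquiv.ofInjectiveField φ
    haveI : IsGalois K L := IsGalois.of_algEquiv el.symm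
    obtain ⟨s, t, hst⟩ := hnab this
    apply hst
    haveI : Normal K φ.fieldRange := inferInstance
    obtain ⟨s', hs'⟩ := AlgEquiv.restrictNormalHom_surjective (F := K) (K₁ := φ.fieldRange) N (el.autCongr s)
    obtain ⟨t', ht'⟩ := AlgEquiv.restrictNormalHom_surjective (F := K) (K₁ := φ.fieldRange) N (el.autCongr t)
    apply el.autCongr.injective
    rw [map_mul, map_mul, ← hs', ← ht', ← map_mul, ← map_mul, hcomm]
  let E := IntermediateField.fixedField A.ker
  haveI : IsGalois K E := IsGalois.of_fixedField_normal_subgroup A.ker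
  refine ⟨E, inferInstance, ?_, ?_, fun w hur => ?_⟩
  · haveI : IsCyclic A.range := inferInstance
    let eq1 := (QuotientGroup.quotientKerEquivRange A).symm.trans (IsGalois.normalAutEquivQuotient A.ker)
    exact isCyclic_of_surjective eq1.toMonoidHom eq1.surjective
  · by_contra hle
    have h1 : Module.finrank K E = 1 :=
      le_antisymm (not_lt.mp hle) Module.finrank_pos
    have hbot : IntermediateField.fixedField A.ker = ⊥ := IntermediateField.finrank_eq_one_iff.mp h1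
    exact hnt (by
      rw [← IntermediateField.fixingSubgroup_fixedField A.ker, hbot,
        IntermediateField.fixingSubgroup_bot])
  · obtain ⟨Q, hQ, hQw⟩ : ∃ Q : Ideal (𝓞 N), Q.IsPrime ∧ Q.LiesOver w.asIdeal := by
      haveI : Algebra.IsIntegral (𝓞 K) (𝓞 N) := Algebra.IsIntegral.of_finite _ _
      obtain ⟨Q, hQ, hc⟩ := Ideal.exists_ideal_over_prime_of_isIntegral w.asIdeal (⊥ : Ideal (𝓞 N))
        (by rw [Ideal.comap_bot_of_injective _ (FaithfulSMul.algebraMap_injective _ _)]; exact bot_le)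
      exact ⟨Q, hc.1, ⟨hc.2.symm⟩⟩
    by_cases hD : ∀ σ : N ≃ₐ[K] N, σ • Q = Q → a σ = 1
    · exact Or.inl (nonempty_algHom_of_fixed w Q E fun σ hσ x hx => hx ⟨σ, (hA σ).mpr (hD σ hσ)⟩)
    · push Not at hD
      obtain ⟨σ, hσQ, hσa⟩ := hD
      -- the fixed point of `σ` is fixed by the decomposition group
      have hne : 1 - a σ ≠ 0 := sub_ne_zero.mpr (Ne.symm hσa)
      set z := b σ / (1 - a σ) with hz
      have hσz : a σ * z + b σ = z := by rw [hz]; field_simp; ring
      refine Or.inr ?_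
      obtain ⟨φ, hφ⟩ : ∃ φ, e φ = z := ⟨e.symm z, e.apply_symm_apply z⟩
      have hall : ∀ τ : N ≃ₐ[K] N, τ • Q = Q → ∀ y, τ (φ y) = φ y := by
        intro τ hτQ y
        refine hfix τ φ y (e.injective ?_)
        rw [hab, hφ]
        have hc := commute_of_stabilizer w Q hur hgen hσQ hτQ
        have h1 : e ((σ * τ).toAlgHom.comp φ) = a σ * (a τ * z + b τ) + b σ := by
          rw [show (σ * τ).toAlgHom.comp φ = σ.toAlgHom.comp (τ.toAlgHom.comp φ) from rfl, hab, hab, hφ]
        rw [hc, show (τ * σ).toAlgHom.comp φ = τ.toAlgHom.comp (σ.toAlgHom.comp φ) from rfl, hab, hab, hφ,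
          hσz] at h1
        refine sub_eq_zero.mp ((mul_eq_zero.mp ?_).resolve_left hne)
        linear_combination h1 + hσz
      obtain ⟨ψ⟩ := nonempty_algHom_of_fixed w Q φ.fieldRange fun τ hτ x hx => by
        obtain ⟨y, rfl⟩ := hx
        exact hall τ hτ y
      exact ⟨ψ.comp φ.rangeRestrict⟩

theorem main (K L Ω : Type u) [Field K] [NumberField K]
    [Field L] [NumberField L] [Algebra K L] [Field Ω] [Algebra K Ω] [IsAlgClosure K Ω]
    (p : ℕ) (hp : p.Prime) (e : (L →ₐ[K] Ω) ≃ ZMod p)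
    (haff : ∀ σ : Ω ≃ₐ[K] Ω, ∃ a b : ZMod p, a ≠ 0 ∧
      ∀ φ : L →ₐ[K] Ω, e (σ.toAlgHom.comp φ) = a * e φ + b)
    (hnab : IsGalois K L → ∃ σ τ : L ≃ₐ[K] L, σ * τ ≠ τ * σ) :
    ∃ E : IntermediateField K Ω, E ≤ IntermediateField.normalClosure K L Ω ∧
      FiniteDimensional K E ∧ IsGalois K E ∧ IsCyclic (E ≃ₐ[K] E) ∧ 1 < Module.finrank K E ∧
      ∀ w : HeightOneSpectrum (𝓞 K),
        (∀ P : Ideal (𝓞 L), P.IsPrime → P.LiesOver w.asIdeal → P.ramificationIdx (𝓞 K) = 1) →
        Nonempty (E →ₐ[K] w.adicCompletion K) ∨ Nonempty (L →ₐ[K] w.adicCompletion K) := by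
  haveI := Fact.mk hp
  haveI : Normal K Ω := IsAlgClosure.normal K Ω
  haveI : FiniteDimensional K L := Module.Finite.of_restrictScalars_finite ℚ K L
  set N := IntermediateField.normalClosure K L Ω with hN
  haveI : Normal K N := normalClosure.normal K L Ω
  haveI : FiniteDimensional K N := normalClosure.is_finiteDimensional K L Ω
  haveI : IsGalois K N := ⟨⟩
  haveI : NumberField N := NumberField.of_module_finite K N
  let c : (L →ₐ[K] N) ≃ (L →ₐ[K] Ω) := normalClosure.algHomEquiv K L Ω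
  have hc : ∀ ψ, c ψ = N.val.comp ψ := fun ψ => rfl
  have hgen : ∀ τ : N ≃ₐ[K] N, (∀ (φ : L →ₐ[K] N) (y : L), τ (φ y) = φ y) → τ = 1 := by
    intro τ h
    have hle : N ≤ IntermediateField.lift (IntermediateField.fixedField (Subgroup.zpowers τ)) := by
      conv_lhs => rw [hN, normalClosure_def]
      refine iSup_le fun f => ?_
      rintro _ ⟨y, rfl⟩
      refine ⟨c.symm f y, ?_, congrArg (fun g : L →ₐ[K] Ω => g y) (c.apply_symm_apply f)⟩
      rintro ⟨g, hg⟩
      have hτ : τ ∈ MulAction.stabilizer (N ≃ₐ[K] N) (c.symm f y) := h (c.symm f) y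
      exact (Subgroup.zpowers_le.mpr hτ) hg
    refine AlgEquiv.ext fun x => ?_
    obtain ⟨x', hx', hxx⟩ := hle x.2
    obtain rfl : x' = x := Subtype.ext hxx
    exact hx' ⟨τ, Subgroup.mem_zpowers τ⟩
  obtain ⟨E, hE, hcyc, hfin, hw⟩ := main_galois p (c.trans e) (fun τ => by
    obtain ⟨a, b, ha, hab⟩ := haff (τ.liftNormal Ω)
    refine ⟨a, b, ha, fun φ => ?_⟩
    rw [Equiv.trans_apply, Equiv.trans_apply, ← hab]
    congr 1
    refine AlgHom.ext fun y => ?_
    rw [hc]
    exact (τ.liftNormal_commutes Ω (φ y)).symm) hgen hnab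
  let el := IntermediateField.liftAlgEquiv E
  refine ⟨IntermediateField.lift E, IntermediateField.lift_le E, el.toLinearEquiv.finiteDimensional,
    IsGalois.of_algEquiv el, ?_, ?_, fun w hur => ?_⟩
  · exact isCyclic_of_surjective el.autCongr.toMonoidHom el.autCongr.surjective
  · rwa [← el.toLinearEquiv.finrank_eq]
  · rcases hw w hur with ⟨⟨f⟩⟩ | h
    · exact Or.inl ⟨f.comp el.symm.toAlgHom⟩
    · exact Or.inr h

end GrothLib.NumFld28
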