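import Groth.Agent.Lib.NumFld28.Hensel
import Mathlib.NumberTheory.NumberField.Basic
import Mathlib.NumberTheory.RamificationInertia.Ramification
import Mathlib.RingTheory.RamificationInertia.Ramification
import Mathlib.RingTheory.Invariant.Galois
import Mathlib.RingTheory.Ideal.Over
import Mathlib.RingTheory.Filtration
import Mathlib.RingTheory.DedekindDomain.Ideal.Lemmas
import Mathlib.FieldTheory.Finite.Basic
import Mathlib.FieldTheory.Galois.Basic
import Mathlib.FieldTheory.Normal.Basic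
import Mathlib.FieldTheory.Minpoly.IsIntegrallyClosed
import Mathlib.LinearAlgebra.FreeModule.IdealQuotient

/-!
# Decomposition groups at primes of a number field
-/

set_option autoImplicit false
set_option linter.style.haveILetI false
set_option linter.unusedSectionVars false

open NumberField IsDedekindDomain Polynomial
open scoped Pointwise

namespace GrothLib.NumFld28

universe u

variable {K N : Type u} [Field K] [NumberField K] [Field N] [NumberField N] [Algebra K N] [IsGalois K N]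

theorem isMaximal_of_liesOver (w : HeightOneSpectrum (𝓞 K)) (Q : Ideal (𝓞 N)) [Q.IsPrime]
    [Q.LiesOver w.asIdeal] : Q.IsMaximal := by
  haveI := w.isMaximal
  haveI : Algebra.IsIntegral (𝓞 K) (𝓞 N) := Algebra.IsIntegral.of_finite _ _
  exact Ideal.isMaximal_of_isIntegral_of_isMaximal_comap (R := 𝓞 K) Q
    (by rw [show Q.comap (algebraMap (𝓞 K) (𝓞 N)) = w.asIdeal from (Q.over_def w.asIdeal).symm]; exact w.isMaximal)

/-- The decomposition field embeds in the completion. -/
theorem nonempty_algHom_of_fixed (w : HeightOneSpectrum (𝓞 K)) (Q : Ideal (𝓞 N)) [Q.IsPrime]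
    [Q.LiesOver w.asIdeal] (F : IntermediateField K N)
    (hF : ∀ σ : N ≃ₐ[K] N, σ • Q = Q → ∀ x ∈ F, σ x = x) :
    Nonempty (F →ₐ[K] w.adicCompletion K) := by
  classical
  haveI : FiniteDimensional K N := Module.Finite.of_restrictScalars_finite ℚ K N
  haveI hQ := isMaximal_of_liesOver w Q
  set D := MulAction.stabilizer (N ≃ₐ[K] N) Q with hD
  -- an element which is a unit at `Q` and vanishes at the conjugates
  obtain ⟨z, hz, hzQ⟩ : ∃ z : 𝓞 N, (∀ σ : N ≃ₐ[K] N, σ ∉ D → z ∈ σ • Q) ∧ z ∉ Q := by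
    have h : ∀ σ : N ≃ₐ[K] N, ∃ z : 𝓞 N, (σ ∉ D → z ∈ σ • Q) ∧ z ∉ Q := fun σ => by
      by_cases hσ : σ ∈ D
      · exact ⟨1, fun h => absurd hσ h, (Ideal.ne_top_iff_one Q).mp hQ.ne_top⟩
      · haveI : (σ • Q).IsMaximal := by
          rw [Ideal.pointwise_smul_eq_comap]
          exact Ideal.comap_isMaximal_of_surjective _ (MulSemiringAction.toRingEquiv _ (𝓞 N) σ).symm.surjective
        obtain ⟨z, hz, hzQ⟩ := SetLike.not_le_iff_exists.mp fun hle : σ • Q ≤ Q =>
          hσ (‹(σ • Q).IsMaximal›.eq_of_le hQ.ne_top hle)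
        exact ⟨z, fun _ => hz, hzQ⟩
    choose z hz hzQ using h
    refine ⟨∏ σ, z σ, fun σ hσ => ?_, fun hmem => ?_⟩
    · rw [← Finset.mul_prod_erase Finset.univ z (Finset.mem_univ σ)]
      exact Ideal.mul_mem_right _ _ (hz σ hσ)
    · obtain ⟨σ, -, hσ⟩ := (Ideal.IsPrime.prod_mem_iff).mp hmem
      exact hzQ σ hσ
  obtain ⟨y, i, hi, hyi⟩ := hQ.exists_inv hzQ
  -- its norm to the decomposition field
  set θ : 𝓞 N := ∏ d : D, (d : N ≃ₐ[K] N) • (y * z) with hθ
  have hθfix : ∀ σ ∈ D, σ • θ = θ := fun σ hσ => by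
    rw [hθ, Finset.smul_prod']
    refine Fintype.prod_equiv (Equiv.mulLeft (⟨σ, hσ⟩ : D)) _ _ fun d => ?_
    rw [smul_smul]
    rfl
  have hθ1 : θ - 1 ∈ Q := by
    rw [← Ideal.Quotient.eq, hθ, map_prod, map_one]
    refine Finset.prod_eq_one fun d _ => ?_
    have h1 : (y * z) - 1 ∈ Q := by
      rw [← hyi, sub_add_cancel_left]; exact Q.neg_mem hi
    rw [← map_one (Ideal.Quotient.mk Q), Ideal.Quotient.eq, ← smul_one (d : N ≃ₐ[K] N) (N := 𝓞 N),
      ← smul_sub]
    rw [← show (d : N ≃ₐ[K] N) • Q = Q from d.2]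
    exact Ideal.smul_mem_pointwise_smul_iff.mpr h1
  have hθout : ∀ σ : N ≃ₐ[K] N, σ ∉ D → σ • θ ∈ Q := fun σ hσ => by
    have hσ' : σ⁻¹ ∉ D := fun h => hσ (inv_mem_iff.mp h)
    have hm : θ ∈ σ⁻¹ • Q := by
      rw [hθ, ← Finset.mul_prod_erase Finset.univ _ (Finset.mem_univ (1 : D)), OneMemClass.coe_one, one_smul]
      exact Ideal.mul_mem_right _ _ (Ideal.mul_mem_left _ y (hz _ hσ'))
    have := Ideal.smul_mem_pointwise_smul σ θ _ hm
    rwa [smul_inv_smul] at this
  have hθQ : θ ∉ Q := fun h => hQ.ne_top ((Ideal.eq_top_iff_one Q).mpr (by simpa using Q.sub_mem h hθ1))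
  -- the stabiliser of `θ`
  have hstab : (IntermediateField.adjoin K {(θ : N)}).fixingSubgroup = D := by
    ext σ
    rw [IntermediateField.mem_fixingSubgroup_iff]
    constructor
    · intro h
      by_contra hσ
      have := h θ (IntermediateField.mem_adjoin_simple_self K _)
      exact hθQ (by rw [show θ = σ • θ from RingOfIntegers.ext this.symm]; exact hθout σ hσ)
    · intro hσ x hx
      have hle : IntermediateField.adjoin K {(θ : N)} ≤ IntermediateField.fixedField (Subgroup.zpowers σ) := by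
        rw [IntermediateField.adjoin_simple_le_iff]
        rintro ⟨τ, hτ⟩
        have hτD : τ ∈ D := (Subgroup.zpowers_le.mpr hσ) hτ
        exact congrArg Subtype.val (hθfix τ hτD)
      exact hle hx ⟨σ, Subgroup.mem_zpowers σ⟩
  have hFle : F ≤ IntermediateField.adjoin K {(θ : N)} := by
    rw [← IsGalois.fixedField_fixingSubgroup (IntermediateField.adjoin K {(θ : N)}), hstab,
      IntermediateField.le_iff_le]
    exact fun σ hσ => (IntermediateField.mem_fixingSubgroup_iff F σ).mpr (hF σ hσ)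
  -- Hensel
  have hint : IsIntegral (𝓞 K) θ := Algebra.IsIntegral.isIntegral θ
  set g := minpoly (𝓞 K) θ with hg
  have hgmap : minpoly K (θ : N) = g.map (algebraMap (𝓞 K) K) :=
    minpoly.isIntegrallyClosed_eq_field_fractions K N hint
  have hsplit : (g.map (algebraMap (𝓞 K) N)).Splits := by
    rw [IsScalarTower.algebraMap_eq (𝓞 K) K N, ← Polynomial.map_map, ← hgmap]
    exact Normal.splits inferInstance _
  set roots := (g.map (algebraMap (𝓞 K) N)).roots with hroots
  have hprod : g.map (algebraMap (𝓞 K) N) = (roots.map fun a => X - C a).prod :=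
    hsplit.eq_prod_roots_of_monic ((minpoly.monic hint).map _)
  have hθroot : (θ : N) ∈ roots := by
    rw [hroots, mem_roots ((minpoly.monic hint).map _).ne_zero, IsRoot.def, eval_map]
    exact (Polynomial.hom_eval₂ g (algebraMap (𝓞 K) (𝓞 N)) (algebraMap (𝓞 N) N) θ).symm.trans
      (by rw [← Polynomial.aeval_def, hg, minpoly.aeval, map_zero])
  have hderθ : Polynomial.aeval θ g.derivative ∉ Q := by
    have he : ((Polynomial.aeval θ g.derivative : 𝓞 N) : N) =
        ((roots.erase (θ : N)).map fun a => (θ : N) - a).prod := by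
      rw [← eval_multiset_prod_X_sub_C_derivative hθroot, ← hprod, derivative_map, eval_map]
      exact Polynomial.hom_eval₂ g.derivative (algebraMap (𝓞 K) (𝓞 N)) (algebraMap (𝓞 N) N) θ
    have hne : ∀ a ∈ roots.erase (θ : N), ∃ b : 𝓞 N, (b : N) = (θ : N) - a ∧ b ∉ Q := by
      intro a ha
      have hnd : roots.Nodup := nodup_roots (by
        rw [IsScalarTower.algebraMap_eq (𝓞 K) K N, ← Polynomial.map_map, ← hgmap]
        exact Polynomial.Separable.map (Algebra.IsSeparable.isSeparable K (θ : N)))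
      have hne : a ≠ (θ : N) := ((Multiset.Nodup.mem_erase_iff hnd).mp ha).1
      have hroot := Polynomial.isRoot_of_mem_roots (Multiset.mem_of_mem_erase ha)
      rw [IsScalarTower.algebraMap_eq (𝓞 K) K N, ← Polynomial.map_map, ← hgmap, IsRoot.def, eval_map,
        ← Polynomial.aeval_def] at hroot
      have hmp : minpoly K a = minpoly K (θ : N) :=
        (minpoly.eq_of_irreducible_of_monic (minpoly.irreducible (IsIntegral.of_finite K (θ : N))) hroot
          (minpoly.monic (IsIntegral.of_finite K (θ : N)))).symm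
      obtain ⟨σ, hσ⟩ := (Normal.minpoly_eq_iff_mem_orbit (F := K) (E := N)).mp hmp
      have hσD : σ ∉ D := fun h => hne (hσ.symm.trans (congrArg Subtype.val (hθfix σ h)))
      refine ⟨θ - σ • θ, ?_, fun h => hθQ (by simpa using Q.add_mem h (hθout σ hσD))⟩
      rw [← hσ]
      rfl
    obtain ⟨b, hb, hbQ⟩ : ∃ b : 𝓞 N, (b : N) = ((roots.erase (θ : N)).map fun a => (θ : N) - a).prod ∧ b ∉ Q := by
      refine Multiset.prod_induction (fun x : N => ∃ b : 𝓞 N, (b : N) = x ∧ b ∉ Q) _ ?_ ?_ ?_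
      · rintro x y ⟨b, rfl, hb⟩ ⟨c, rfl, hc⟩
        exact ⟨b * c, map_mul _ _ _, fun h => (Ideal.IsPrime.mem_or_mem inferInstance h).elim hb hc⟩
      · exact ⟨1, map_one _, (Ideal.ne_top_iff_one Q).mp hQ.ne_top⟩
      · intro x hx
        obtain ⟨a, ha, rfl⟩ := Multiset.mem_map.mp hx
        exact hne a ha
    rwa [show Polynomial.aeval θ g.derivative = b from RingOfIntegers.ext (he.trans hb.symm)]
  have hcong : ∀ p : (𝓞 K)[X], algebraMap (𝓞 K) (𝓞 N) (p.eval 1) - Polynomial.aeval θ p ∈ Q := by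
    intro p
    obtain ⟨t, ht⟩ := sub_dvd_eval_sub (algebraMap (𝓞 K) (𝓞 N) 1) θ (p.map (algebraMap (𝓞 K) (𝓞 N)))
    rw [eval_map, eval₂_at_apply, eval_map, ← Polynomial.aeval_def, map_one] at ht
    rw [ht]
    exact Ideal.mul_mem_right _ _ (by rw [← neg_sub]; exact Q.neg_mem hθ1)
  have hwQ : ∀ r : 𝓞 K, r ∈ w.asIdeal ↔ algebraMap (𝓞 K) (𝓞 N) r ∈ Q := fun r => by
    rw [Q.over_def w.asIdeal]; rfl
  obtain ⟨x, hx⟩ := exists_root_adicCompletion K w g 1
    ((hwQ _).mpr (by simpa [hg, minpoly.aeval] using hcong g))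
    (fun h => hderθ (by simpa using Q.sub_mem ((hwQ _).mp h) (hcong g.derivative)))
  have hroot : Polynomial.aeval x (minpoly K (θ : N)) = 0 := by
    rw [hgmap, Polynomial.aeval_def, eval₂_map]; exact hx
  let ψ : (IntermediateField.adjoin K {(θ : N)}) →ₐ[K] w.adicCompletion K :=
    (IntermediateField.algHomAdjoinIntegralEquiv K (IsIntegral.of_finite K (θ : N))).symm
      ⟨x, (Polynomial.mem_aroots).mpr ⟨minpoly.ne_zero (IsIntegral.of_finite K (θ : N)), hroot⟩⟩
  exact ⟨ψ.comp (IntermediateField.inclusion hFle)⟩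

/-- At an unramified prime an element of the inertia group fixes the field. -/
theorem fix_of_inertia {L : Type u} [Field L] [NumberField L] [Algebra K L] (φ : L →ₐ[K] N)
    (w : HeightOneSpectrum (𝓞 K)) (Q : Ideal (𝓞 N)) [Q.IsPrime] [Q.LiesOver w.asIdeal]
    (hur : ∀ P : Ideal (𝓞 L), P.IsPrime → P.LiesOver w.asIdeal → P.ramificationIdx (𝓞 K) = 1)
    {τ : N ≃ₐ[K] N} (hτ : ∀ x : 𝓞 N, τ • x - x ∈ Q) (y : L) : τ (φ y) = φ y := by
  classical
  haveI hQ := isMaximal_of_liesOver w Q
  let f : 𝓞 L →ₐ[𝓞 K] 𝓞 N := RingOfIntegers.mapAlgHom φ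
  set P := Q.comap f.toRingHom with hP
  haveI : P.IsPrime := Ideal.comap_isPrime _ _
  haveI hPw : P.LiesOver w.asIdeal := ⟨by
    rw [Q.over_def w.asIdeal, Ideal.under, Ideal.under, hP, Ideal.comap_comap]
    exact congrArg (Ideal.comap · Q) (RingHom.ext fun r => (f.commutes r).symm)⟩
  have hP0 : P ≠ ⊥ := fun h => w.ne_bot (by rw [P.over_def w.asIdeal, h, Ideal.under_bot])
  have hsup : w.asIdeal.map (algebraMap (𝓞 K) (𝓞 L)) ⊔ P ^ 2 = P := by
    have hle : w.asIdeal.map (algebraMap (𝓞 K) (𝓞 L)) ≤ P :=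
      Ideal.map_le_iff_le_comap.mpr (le_of_eq (P.over_def w.asIdeal))
    by_contra hne
    have hlt : w.asIdeal.map (algebraMap (𝓞 K) (𝓞 L)) ⊔ P ^ 2 < P :=
      lt_of_le_of_ne (sup_le hle (Ideal.pow_le_self two_ne_zero)) hne
    have heq : w.asIdeal.map (algebraMap (𝓞 K) (𝓞 L)) ⊔ P ^ 2 = P ^ 2 := by
      by_contra hne2
      refine hne ((Ideal.eq_prime_pow_of_succ_lt_of_le (P := P) (i := 1) hP0 ?_ ?_).trans (pow_one P))
      · exact lt_of_le_of_ne le_sup_right (Ne.symm hne2)
      · rw [pow_one]; exact hlt.le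
    have h2 : w.asIdeal.map (algebraMap (𝓞 K) (𝓞 L)) ≤ P ^ 2 := heq ▸ le_sup_left
    have h1 := hur P inferInstance hPw
    rw [← Ideal.ramificationIdx'_eq_ramificationIdx w.asIdeal P w.ne_bot] at h1
    exact (Ideal.ramificationIdx'_ne_one_iff hle).mpr h2 h1
  have hAfix : ∀ r : 𝓞 K, τ • f (algebraMap (𝓞 K) (𝓞 L) r) = f (algebraMap (𝓞 K) (𝓞 L) r) := fun r => by
    rw [f.commutes]
    refine RingOfIntegers.ext ?_
    change τ (algebraMap K N (r : K)) = algebraMap K N (r : K)
    exact τ.commutes _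
  have key : ∀ n, 1 ≤ n → ∀ x : 𝓞 L, τ • f x - f x ∈ Q ^ n := by
    intro n hn
    induction n, hn using Nat.le_induction with
    | base => intro x; rw [pow_one]; exact hτ _
    | succ n hn ih =>
      have hpow : Q * Q ^ n ≤ Q ^ (n + 1) := by rw [pow_succ']
      let Z : Submodule ℤ (𝓞 L) :=
        { carrier := {x | τ • f x - f x ∈ Q ^ (n + 1)}
          zero_mem' := by simp
          add_mem' := fun {a b} ha hb => by
            change τ • f (a + b) - f (a + b) ∈ Q ^ (n + 1)
            rw [map_add, smul_add, add_sub_add_comm]; exact add_mem ha hb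
          smul_mem' := fun c {a} ha => by
            change τ • f (c • a) - f (c • a) ∈ Q ^ (n + 1)
            rw [map_zsmul, smul_comm, ← smul_sub]; exact zsmul_mem ha c }
      have leib : ∀ a b : 𝓞 L, τ • f (a * b) - f (a * b) =
          τ • f a * (τ • f b - f b) + f b * (τ • f a - f a) := fun a b => by
        rw [map_mul, smul_mul']; ring
      have hfP : ∀ a ∈ P, f a ∈ Q ∧ τ • f a ∈ Q := fun a ha => by
        refine ⟨ha, ?_⟩
        have : f a ∈ Q := ha
        simpa using Q.add_mem (hτ (f a)) this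
      have hw : ∀ x ∈ w.asIdeal.map (algebraMap (𝓞 K) (𝓞 L)), x ∈ Z := by
        intro x hx
        induction hx using Submodule.span_induction with
        | mem x hx =>
          obtain ⟨r, -, rfl⟩ := hx
          change _ ∈ Q ^ (n + 1)
          rw [hAfix, sub_self]; exact zero_mem _
        | zero => exact Z.zero_mem
        | add a b _ _ ha hb => exact Z.add_mem ha hb
        | smul c a ha haZ =>
          change τ • f (c * a) - f (c * a) ∈ Q ^ (n + 1)
          rw [leib]
          refine add_mem (Ideal.mul_mem_left _ _ haZ) (hpow (Ideal.mul_mem_mul ?_ (ih _)))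
          exact (hfP a (Ideal.map_le_iff_le_comap.mpr (le_of_eq (P.over_def w.asIdeal)) ha)).1
      have hP2 : ∀ x ∈ P ^ 2, x ∈ Z := by
        intro x hx
        rw [pow_two] at hx
        induction hx using Submodule.mul_induction_on' with
        | mem_mul_mem a ha b hb =>
          change τ • f (a * b) - f (a * b) ∈ Q ^ (n + 1)
          rw [leib]
          exact add_mem (hpow (Ideal.mul_mem_mul (hfP a ha).2 (ih _)))
            (hpow (Ideal.mul_mem_mul (hfP b hb).1 (ih _)))
        | add a _ b _ ha hb => exact Z.add_mem ha hb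
      have hPZ : ∀ x ∈ P, x ∈ Z := fun x hx => by
        rw [← hsup, Submodule.mem_sup] at hx
        obtain ⟨a, ha, b, hb, rfl⟩ := hx
        exact Z.add_mem (hw a ha) (hP2 b hb)
      intro x
      have hpowd : ∀ k : ℕ, τ • f (x ^ (k + 1)) - f (x ^ (k + 1)) -
          (k + 1 : ℕ) * f x ^ k * (τ • f x - f x) ∈ Q ^ (n + 1) := by
        intro k
        induction k with
        | zero => simp
        | succ k ihk =>
          have e : τ • f (x ^ (k + 1 + 1)) - f (x ^ (k + 1 + 1)) -
              ((k + 1 + 1 : ℕ) : 𝓞 N) * f x ^ (k + 1) * (τ • f x - f x) =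
              f x * (τ • f (x ^ (k + 1)) - f (x ^ (k + 1)) - ((k + 1 : ℕ) : 𝓞 N) * f x ^ k * (τ • f x - f x)) +
                (τ • f (x ^ (k + 1)) - f (x ^ (k + 1))) * (τ • f x - f x) := by
            rw [pow_succ x (k + 1), map_mul, smul_mul', map_pow, smul_pow', Nat.cast_add (k + 1) 1, Nat.cast_one]
            ring
          rw [e]
          refine add_mem (Ideal.mul_mem_left _ _ ihk) (hpow (Ideal.mul_mem_mul ?_ (ih _)))
          exact hτ _
      haveI : P.IsMaximal := Ideal.IsPrime.isMaximal inferInstance hP0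
      letI := Ideal.Quotient.field P
      haveI : Finite (𝓞 L ⧸ P) := Ideal.finiteQuotientOfFreeOfNeBot P hP0
      letI := Fintype.ofFinite (𝓞 L ⧸ P)
      set q := Fintype.card (𝓞 L ⧸ P) with hq
      obtain ⟨k, hk⟩ : ∃ k, q = k + 1 := ⟨q - 1, by have : 0 < q := Fintype.card_pos; omega⟩
      have hxq : x ^ q - x ∈ P := by
        rw [← Ideal.Quotient.eq, map_pow]; exact FiniteField.pow_card _
      have hqP : ((q : ℕ) : 𝓞 L) ∈ P := by
        rw [← Ideal.Quotient.eq_zero_iff_mem, map_natCast]; exact Nat.cast_card_eq_zero _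
      have hqQ : ((q : ℕ) : 𝓞 N) ∈ Q := by
        have := (hfP _ hqP).1
        rwa [map_natCast] at this
      have h1 := hPZ _ hxq
      change τ • f (x ^ q - x) - f (x ^ q - x) ∈ Q ^ (n + 1) at h1
      have h2 : τ • f (x ^ q) - f (x ^ q) ∈ Q ^ (n + 1) := by
        have h3 := hpowd k
        rw [← hk] at h3
        have h4 : ((q : ℕ) : 𝓞 N) * f x ^ k * (τ • f x - f x) ∈ Q ^ (n + 1) :=
          hpow (Ideal.mul_mem_mul (Ideal.mul_mem_right _ _ hqQ) (ih x))
        simpa using add_mem h3 h4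
      have h5 := sub_mem h2 h1
      rw [map_sub, smul_sub] at h5
      simpa [sub_sub_sub_comm] using h5
  have hint : ∀ x : 𝓞 L, τ • f x = f x := fun x => by
    refine sub_eq_zero.mp ?_
    rw [← Ideal.mem_bot, ← Ideal.iInf_pow_eq_bot_of_isDomain Q hQ.ne_top, Ideal.mem_iInf]
    intro n
    rcases Nat.eq_zero_or_pos n with rfl | hn
    · simp
    · exact key n hn x
  obtain ⟨a, b, -, rfl⟩ := IsFractionRing.div_surjective (A := 𝓞 L) y
  rw [map_div₀, map_div₀]
  congr 1
  · exact congrArg Subtype.val (hint a)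
  · exact congrArg Subtype.val (hint b)

end GrothLib.NumFld28
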