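import Mathlib.RingTheory.DedekindDomain.AdicValuation
import Mathlib.Algebra.Polynomial.Identities
import Mathlib.GroupTheory.ArchimedeanDensely
import Mathlib.Topology.Algebra.Polynomial

/-!
# Hensel's lemma in complete discretely valued fields and completions of Dedekind domains
-/

set_option autoImplicit false

open Polynomial Filter Topology
open scoped WithZero

namespace GrothLib.NumFld28

/-- The simplified Newton iteration converges to a root. -/
theorem exists_isRoot_of_valued {F : Type*} [Field F] [Valued F ℤᵐ⁰] [CompleteSpace F]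
    (f : (Valued.v (R := F) (Γ₀ := ℤᵐ⁰)).integer[X]) (a₀ : (Valued.v (R := F) (Γ₀ := ℤᵐ⁰)).integer)
    (h0 : Valued.v ((f.eval a₀ : (Valued.v (R := F) (Γ₀ := ℤᵐ⁰)).integer) : F) < 1)
    (h1 : Valued.v ((f.derivative.eval a₀ : (Valued.v (R := F) (Γ₀ := ℤᵐ⁰)).integer) : F) = 1) :
    ∃ x : F, (f.map (Valued.v (R := F) (Γ₀ := ℤᵐ⁰)).integer.subtype).IsRoot x := by
  have hle : ∀ x : (Valued.v (R := F) (Γ₀ := ℤᵐ⁰)).integer, (Valued.v (R := F) (Γ₀ := ℤᵐ⁰)) (x : F) ≤ 1 := fun x => x.2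
  let c : ℤᵐ⁰ := (Valued.v (R := F) (Γ₀ := ℤᵐ⁰)) ((f.eval a₀ : (Valued.v (R := F) (Γ₀ := ℤᵐ⁰)).integer) : F)
  have hu0 : ((f.derivative.eval a₀ : (Valued.v (R := F) (Γ₀ := ℤᵐ⁰)).integer) : F) ≠ 0 := fun h => by
    rw [h, map_zero] at h1; exact zero_ne_one h1
  let u : (Valued.v (R := F) (Γ₀ := ℤᵐ⁰)).integer := ⟨((f.derivative.eval a₀ : (Valued.v (R := F) (Γ₀ := ℤᵐ⁰)).integer) : F)⁻¹,
    (Valuation.mem_integer_iff _ _).mpr (by rw [map_inv₀, h1, inv_one])⟩
  have hu : f.derivative.eval a₀ * u = 1 := Subtype.ext (mul_inv_cancel₀ hu0)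
  let seq : ℕ → (Valued.v (R := F) (Γ₀ := ℤᵐ⁰)).integer := fun n => Nat.rec a₀ (fun _ a => a - f.eval a * u) n
  have hstep : ∀ n, seq (n + 1) = seq n - f.eval (seq n) * u := fun n => rfl
  have hsub : ∀ (g : (Valued.v (R := F) (Γ₀ := ℤᵐ⁰)).integer[X]) (x y : (Valued.v (R := F) (Γ₀ := ℤᵐ⁰)).integer), (Valued.v (R := F) (Γ₀ := ℤᵐ⁰)) ((g.eval x - g.eval y : (Valued.v (R := F) (Γ₀ := ℤᵐ⁰)).integer) : F) ≤ (Valued.v (R := F) (Γ₀ := ℤᵐ⁰)) ((x - y : (Valued.v (R := F) (Γ₀ := ℤᵐ⁰)).integer) : F) := by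
    intro g x y
    obtain ⟨t, ht⟩ := sub_dvd_eval_sub x y g
    rw [ht, Subring.coe_mul, map_mul]
    exact mul_le_of_le_one_right zero_le (hle t)
  have key : ∀ n, (Valued.v (R := F) (Γ₀ := ℤᵐ⁰)) ((f.eval (seq n) : (Valued.v (R := F) (Γ₀ := ℤᵐ⁰)).integer) : F) ≤ c ^ (n + 1) ∧ (Valued.v (R := F) (Γ₀ := ℤᵐ⁰)) ((seq n - a₀ : (Valued.v (R := F) (Γ₀ := ℤᵐ⁰)).integer) : F) ≤ c := by
    intro n
    induction n with
    | zero => exact ⟨le_of_eq (pow_one c).symm, by simp [seq]⟩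
    | succ n ih =>
      obtain ⟨ih1, ih2⟩ := ih
      have hdiff : (Valued.v (R := F) (Γ₀ := ℤᵐ⁰)) ((seq (n + 1) - seq n : (Valued.v (R := F) (Γ₀ := ℤᵐ⁰)).integer) : F) ≤ c ^ (n + 1) := by
        rw [hstep, sub_sub_cancel_left, Subring.coe_neg, (Valued.v (R := F) (Γ₀ := ℤᵐ⁰)).map_neg, Subring.coe_mul, map_mul]
        exact (mul_le_of_le_one_right zero_le (hle u)).trans ih1
      refine ⟨?_, ?_⟩
      · obtain ⟨k, hk⟩ := f.binomExpansion (seq n) (-(f.eval (seq n) * u))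
        rw [hstep, sub_eq_add_neg, hk,
          show f.eval (seq n) + f.derivative.eval (seq n) * -(f.eval (seq n) * u) + k * (-(f.eval (seq n) * u)) ^ 2 =
            f.eval (seq n) * ((f.derivative.eval a₀ - f.derivative.eval (seq n)) * u +
              f.eval (seq n) * (k * u ^ 2)) by linear_combination (-(f.eval (seq n))) * hu,
          Subring.coe_mul, map_mul, pow_succ c (n + 1)]
        refine mul_le_mul' ih1 ?_
        rw [Subring.coe_add]
        refine (Valued.v (R := F) (Γ₀ := ℤᵐ⁰)).map_add_le ?_ ?_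
        · rw [Subring.coe_mul, map_mul]
          refine (mul_le_of_le_one_right zero_le (hle u)).trans ((hsub _ _ _).trans ?_)
          rw [← neg_sub, Subring.coe_neg, (Valued.v (R := F) (Γ₀ := ℤᵐ⁰)).map_neg]
          exact ih2
        · rw [Subring.coe_mul, map_mul]
          refine (mul_le_of_le_one_right zero_le (hle _)).trans (ih1.trans ?_)
          exact pow_le_of_le_one zero_le h0.le (Nat.succ_ne_zero n)
      · rw [← sub_add_sub_cancel (seq (n + 1)) (seq n) a₀, Subring.coe_add]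
        exact (Valued.v (R := F) (Γ₀ := ℤᵐ⁰)).map_add_le (hdiff.trans (pow_le_of_le_one zero_le h0.le (Nat.succ_ne_zero n))) ih2
  have hdiff : ∀ n m, n ≤ m → (Valued.v (R := F) (Γ₀ := ℤᵐ⁰)) ((seq m).val - (seq n).val) ≤ c ^ (n + 1) := by
    intro n m h
    induction m, h using Nat.le_induction with
    | base => simp
    | succ m hnm ih =>
      rw [← sub_add_sub_cancel ((seq (m + 1) : (Valued.v (R := F) (Γ₀ := ℤᵐ⁰)).integer) : F) (seq m).val (seq n).val]
      refine (Valued.v (R := F) (Γ₀ := ℤᵐ⁰)).map_add_le ?_ ih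
      rw [← AddSubgroupClass.coe_sub, hstep, sub_sub_cancel_left, Subring.coe_neg, (Valued.v (R := F) (Γ₀ := ℤᵐ⁰)).map_neg, Subring.coe_mul,
        map_mul]
      exact ((mul_le_of_le_one_right zero_le (hle u)).trans (key m).1).trans
        (pow_le_pow_of_le_one zero_le h0.le (by omega))
  have hsmall : ∀ γ : ℤᵐ⁰, γ ≠ 0 → ∃ N, ∀ n ≥ N, c ^ (n + 1) < γ := fun γ hγ => by
    obtain ⟨N, hN⟩ := exists_pow_lt₀ h0 (Units.mk0 γ hγ)
    exact ⟨N, fun n hn => (pow_le_pow_of_le_one zero_le h0.le (by omega)).trans_lt hN⟩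
  have hcau : CauchySeq fun n => (seq n).val := by
    rw [(Valued.hasBasis_uniformity F ℤᵐ⁰).cauchySeq_iff]
    intro γ _
    obtain ⟨N, hN⟩ := hsmall (MonoidWithZeroHom.ValueGroup₀.embedding γ.1)
      ((_root_.map_ne_zero _).mpr γ.ne_zero)
    refine ⟨N, fun m hm n hn => ?_⟩
    change (Valued.v (R := F) (Γ₀ := ℤᵐ⁰)).restrict ((seq n).val - (seq m).val) < γ.1
    rw [Valuation.restrict_lt_iff_lt_embedding]
    rcases le_total m n with h | h
    · exact (hdiff m n h).trans_lt (hN m hm)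
    · rw [← neg_sub, (Valued.v (R := F) (Γ₀ := ℤᵐ⁰)).map_neg]
      exact (hdiff n m h).trans_lt (hN n hn)
  obtain ⟨x, hx⟩ := cauchySeq_tendsto_of_complete hcau
  refine ⟨x, by_contra fun hne => ?_⟩
  set g := f.map (Valued.v (R := F) (Γ₀ := ℤᵐ⁰)).integer.subtype with hg
  have hlim : Tendsto (fun n => g.eval (seq n).val) atTop (𝓝 (g.eval x)) :=
    (g.continuous.tendsto x).comp hx
  have hγ : (Valued.v (R := F) (Γ₀ := ℤᵐ⁰)) (g.eval x) ≠ 0 := (Valuation.ne_zero_iff _).mpr hne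
  have hev := hlim.eventually (Valued.locally_const hγ)
  obtain ⟨N, hN⟩ := hsmall _ hγ
  obtain ⟨n, hn1, hn2⟩ := (hev.and (eventually_ge_atTop N)).exists
  have h3 : g.eval (seq n).val = ((f.eval (seq n) : (Valued.v (R := F) (Γ₀ := ℤᵐ⁰)).integer) : F) := by
    rw [hg, eval_map]
    exact eval₂_at_apply _ _
  rw [h3] at hn1
  exact absurd ((key n).1.trans_lt (hN n hn2)) (by rw [hn1]; exact lt_irrefl _)

open IsDedekindDomain in
/-- Hensel's lemma for the completion of a Dedekind domain at a prime. -/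
theorem exists_root_adicCompletion {R : Type*} [CommRing R] [IsDedekindDomain R] (K : Type*) [Field K]
    [Algebra R K] [IsFractionRing R K] (w : HeightOneSpectrum R) (f : R[X]) (a : R)
    (h0 : f.eval a ∈ w.asIdeal) (h1 : f.derivative.eval a ∉ w.asIdeal) :
    ∃ x : w.adicCompletion K,
      Polynomial.eval₂ ((algebraMap K (w.adicCompletion K)).comp (algebraMap R K)) x f = 0 := by
  set ι := (algebraMap K (w.adicCompletion K)).comp (algebraMap R K) with hι
  have hval : ∀ r : R, Valued.v (ι r) = w.intValuation r := fun r => by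
    rw [← w.valuation_of_algebraMap (K := K)]
    exact HeightOneSpectrum.valuedAdicCompletion_eq_valuation' w _
  have hmem : ∀ r : R, ι r ∈ (Valued.v (R := w.adicCompletion K) (Γ₀ := ℤᵐ⁰)).integer := fun r => by
    rw [Valuation.mem_integer_iff, hval]; exact w.intValuation_le_one r
  let j : R →+* (Valued.v (R := w.adicCompletion K) (Γ₀ := ℤᵐ⁰)).integer := ι.codRestrict _ hmem
  have hj : ∀ g : R[X], (((g.map j).eval (j a) : (Valued.v (R := w.adicCompletion K) (Γ₀ := ℤᵐ⁰)).integer) :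
      w.adicCompletion K) = ι (g.eval a) := fun g => by
    rw [eval_map, eval₂_at_apply]; rfl
  obtain ⟨x, hx⟩ := exists_isRoot_of_valued (f.map j) (j a)
    (by rw [hj, hval]; exact (w.intValuation_lt_one_iff_mem _).mpr h0)
    (by rw [derivative_map, hj, hval]; exact (w.intValuation_eq_one_iff).mpr h1)
  refine ⟨x, ?_⟩
  rw [IsRoot, Polynomial.map_map, eval_map] at hx
  exact hx

end GrothLib.NumFld28
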